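import Groth.Agent.CompactRetract.Finite

/-!
A projective object with coproduct-preserving `Hom` is compact in the derived category.
-/

set_option autoImplicit false
set_option backward.isDefEq.respectTransparency false
set_option backward.isDefEq.respectTransparency.types false

universe v u

open CategoryTheory Category Limits DerivedCategory Opposite

namespace Groth.Agent.CompactProj

variable {B : Type u} [Category.{v} B] [Abelian B] [IsGrothendieckAbelian.{v} B]
  [HasDerivedCategory.{v} B] [HasCoproducts.{v} (DerivedCategory B)]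

theorem isCompactObject_single (P : B) [Projective P]
    (hP : ∀ ι : Type v, PreservesColimitsOfShape (Discrete ι) (preadditiveCoyoneda.obj (op P))) (n : ℤ) :
    CohDer.IsCompactObject ((Q : _ ⥤ DerivedCategory B).obj ((HomologicalComplex.single B (ComplexShape.up ℤ) n).obj P)) := by
  classical
  let S := (HomologicalComplex.single B (ComplexShape.up ℤ) n).obj P
  have hSp : ∀ i, Projective (S.X i) := fun i => by
    by_cases h : i = n
    · subst h
      exact Projective.of_iso (HomologicalComplex.singleObjXSelf _ i P).symm inferInstance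
    · exact (HomologicalComplex.isZero_single_obj_X _ n _ i h).projective
  have : CochainComplex.IsKProjective S := CochainComplex.isKProjective_of_projective _ n
  have hQ : ∀ L, Function.Surjective (Q.map : (S ⟶ L) → (Q.obj S ⟶ Q.obj L)) := fun L φ => by
    obtain ⟨g, hg⟩ := (CochainComplex.IsKProjective.Qh_map_bijective S
      ((HomotopyCategory.quotient _ (ComplexShape.up ℤ)).obj L)).2
      ((quotientCompQhIso _).hom.app S ≫ φ ≫ (quotientCompQhIso _).inv.app L)
    obtain ⟨g, rfl⟩ := (HomotopyCategory.quotient _ (ComplexShape.up ℤ)).map_surjective g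
    refine ⟨g, ?_⟩
    have := quotientCompQhIso_hom_naturality g
    rw [hg] at this
    simpa using! this.symm
  intro T X
  refine ⟨fun a b hab => DFinsupp.ext fun t => ?_, fun α => ?_⟩
  · let π : (∐ X) ⟶ X t := Sigma.desc fun t' => if h : t' = t then eqToHom (by rw [h]) else 0
    have key : ∀ a, CohDer.homSumToHomCoprod (Q.obj S) X a ≫ π = a t := by
      intro a
      induction a using DirectSum.induction_on with
      | zero => rw [map_zero, zero_comp]; rfl
      | of t' φ =>
        rw [CohDerTri.homSum_of, Category.assoc, Sigma.ι_desc]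
        by_cases h : t' = t
        · subst h; simp
        · simp [dif_neg h, DirectSum.of_eq_of_ne _ _ _ (Ne.symm h)]
      | add a b ha hb => rw [map_add, Preadditive.add_comp, ha, hb]; rfl
    rw [← key a, ← key b, hab]
  · let K₀ := fun t => (Q : _ ⥤ DerivedCategory B).objPreimage (X t)
    let e : ∀ t, Q.obj (K₀ t) ≅ X t := fun t => Q.objObjPreimageIso (X t)
    obtain ⟨hc⟩ := DQCoh.nonempty_isColimit_Q_coprod BrownDerived.hKinj K₀
    let φ : Q.obj (∐ K₀) ⟶ ∐ X := Cofan.IsColimit.desc hc fun t => (e t).hom ≫ Sigma.ι X t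
    let ψ : (∐ X) ⟶ Q.obj (∐ K₀) := Sigma.desc fun t => (e t).inv ≫ Q.map (Sigma.ι K₀ t)
    have hψφ : ψ ≫ φ = 𝟙 _ := Sigma.hom_ext _ _ fun t => by
      have h2 : Q.map (Sigma.ι K₀ t) ≫ φ = (e t).hom ≫ Sigma.ι X t := Cofan.IsColimit.fac hc _ t
      simp [ψ, h2]
    obtain ⟨g, hg⟩ := hQ (∐ K₀) (α ≫ ψ)
    let pc : (∐ fun t => (K₀ t).X n) ⟶ (∐ K₀).X n := Sigma.desc fun t => (Sigma.ι K₀ t).f n
    have hpc : ∀ t, Sigma.ι (fun t => (K₀ t).X n) t ≫ pc = (Sigma.ι K₀ t).f n := fun t => Sigma.ι_desc _ _
    have : IsIso pc :=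
      inferInstanceAs (IsIso (sigmaComparison (HomologicalComplex.eval B (ComplexShape.up ℤ) n) K₀))
    obtain ⟨F, hF⟩ := CompactRetract.exists_kill (fun t => (K₀ t).X n) (hP T)
      ((HomologicalComplex.singleObjXSelf (ComplexShape.up ℤ) n P).inv ≫ g.f n ≫ inv pc)
    let π : ∀ t, (∐ K₀) ⟶ K₀ t := fun t => Sigma.desc fun t' => if h : t' = t then eqToHom (by rw [h]) else 0
    have hsum : pc ≫ (∑ t ∈ F, π t ≫ Sigma.ι K₀ t).f n = (𝟙 _ - CompactRetract.kill (fun t => (K₀ t).X n) F) ≫ pc := by
      refine Sigma.hom_ext _ _ fun t => ?_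
      show Sigma.ι (fun t => (K₀ t).X n) t ≫ pc ≫ _ = Sigma.ι (fun t => (K₀ t).X n) t ≫ _ ≫ pc
      rw [reassoc_of% (hpc t), Preadditive.sub_comp, Preadditive.comp_sub, id_comp, hpc]
      show (Sigma.ι K₀ t).f n ≫ _ = (Sigma.ι K₀ t).f n - _
      rw [← HomologicalComplex.comp_f, Preadditive.comp_sum]
      by_cases h : t ∈ F
      · rw [reassoc_of% (CompactRetract.ι_kill (fun t => (K₀ t).X n) h), zero_comp, sub_zero,
          Finset.sum_eq_single t (fun t' _ ht' => by simp [π, Ne.symm ht']) (fun h' => absurd h h')]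
        simp [π]
      · rw [Finset.sum_eq_zero (fun t' ht' => by simp [π, show t ≠ t' by rintro rfl; exact h ht'])]
        simp only [CompactRetract.kill, Sigma.ι_desc_assoc, if_neg h, HomologicalComplex.zero_f]
        rw [hpc]
        exact (sub_self _).symm
    have hgeq : g = ∑ t ∈ F, g ≫ π t ≫ Sigma.ι K₀ t := by
      refine HomologicalComplex.from_single_hom_ext ?_
      rw [← cancel_epi (HomologicalComplex.singleObjXSelf (ComplexShape.up ℤ) n P).inv,
        ← Preadditive.comp_sum, HomologicalComplex.comp_f]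
      conv_rhs => rw [show g.f n = (g.f n ≫ inv pc) ≫ pc from by simp, assoc (g.f n ≫ inv pc), hsum,
        Preadditive.sub_comp, id_comp, Preadditive.comp_sub, Preadditive.comp_sub]
      rw [← assoc _ _ (CompactRetract.kill _ F ≫ pc), ← assoc _ (CompactRetract.kill _ F), hF, zero_comp,
        sub_zero]
      simp
    refine ⟨∑ t ∈ F, DirectSum.of _ t (Q.map (g ≫ π t) ≫ (e t).hom), ?_⟩
    rw [map_sum, ← Category.comp_id α, ← hψφ, ← Category.assoc, ← hg]
    conv_rhs => rw [hgeq, Functor.map_sum, Preadditive.sum_comp]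
    refine Finset.sum_congr rfl fun t _ => ?_
    have h2 : Q.map (Sigma.ι K₀ t) ≫ φ = (e t).hom ≫ Sigma.ι X t := Cofan.IsColimit.fac hc _ t
    rw [CohDerTri.homSum_of, ← assoc g, Functor.map_comp (Q) (g ≫ π t) (Sigma.ι K₀ t), assoc, assoc, h2]

end Groth.Agent.CompactProj
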